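import Mathlib
import Groth.Prelude.Def_Grpd
import Groth.Agent.H4.GrpdLib
import Groth.Agent.H4.GrpdLib12

/-!
# The groupoid scheme of an open equivalence relation `Ro ⊆ U ×_S U`
-/

set_option autoImplicit false

open CategoryTheory Limits AlgebraicGeometry

universe u

namespace Groth.Agent.H3.SGA1Quot

variable {S U : Scheme.{u}} (f : U ⟶ S)

local macro "pair_simp" : tactic => `(tactic| simp only [Category.assoc, pullback.lift_fst,
  pullback.lift_snd, pullback.lift_fst_assoc, pullback.lift_snd_assoc, Category.comp_id,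
  Category.id_comp])

/-- the pair groupoid `U ×_S U ⇉ U` of a morphism `f : U ⟶ S` -/
@[reducible] noncomputable def pairG : Grpd.GroupoidScheme S where
  U := U
  R := pullback f f
  pU := f
  pR := pullback.fst f f ≫ f
  s := pullback.snd f f
  t := pullback.fst f f
  e := pullback.lift (𝟙 _) (𝟙 _) rfl
  i := pullback.lift (pullback.snd _ _) (pullback.fst _ _) pullback.condition.symm
  c := pullback.lift (pullback.fst _ _ ≫ pullback.fst _ _) (pullback.snd _ _ ≫ pullback.snd _ _)
    (calc (pullback.fst (pullback.snd f f) (pullback.fst f f) ≫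
            pullback.fst f f) ≫ f
        = pullback.fst (pullback.snd f f) (pullback.fst f f) ≫
            pullback.snd f f ≫ f := by rw [Category.assoc, pullback.condition]
      _ = pullback.snd (pullback.snd f f) (pullback.fst f f) ≫
            pullback.fst f f ≫ f := by
          rw [← Category.assoc, pullback.condition, Category.assoc]
      _ = (pullback.snd (pullback.snd f f) (pullback.fst f f) ≫
            pullback.snd f f) ≫ f := by rw [Category.assoc, pullback.condition])
  s_over := pullback.condition.symm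
  t_over := rfl
  comp_s := fun α β h => by pair_simp
  comp_t := fun α β h => by pair_simp
  assoc := fun α β γ h₁ h₂ => by apply pullback.hom_ext <;> pair_simp
  e_s := pullback.lift_snd _ _ _
  e_t := pullback.lift_fst _ _ _
  comp_e := fun α => by apply pullback.hom_ext <;> pair_simp
  e_comp := fun α => by apply pullback.hom_ext <;> pair_simp
  i_s := pullback.lift_snd _ _ _
  i_t := pullback.lift_fst _ _ _
  comp_i := fun α => by apply pullback.hom_ext <;> pair_simp
  i_comp := fun α => by apply pullback.hom_ext <;> pair_simp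

/-- the swap of `U ×_S U` -/
noncomputable abbrev swapP : pullback f f ⟶ pullback f f :=
  pullback.lift (pullback.snd _ _) (pullback.fst _ _) pullback.condition.symm

/-- the composition map `(a, b), (b, c) ↦ (a, c)` restricted to an open `Ro` -/
noncomputable def compP (Ro : (pullback f f).Opens) :
    pullback (Ro.ι ≫ pullback.snd f f) (Ro.ι ≫ pullback.fst f f) ⟶ pullback f f :=
  Groth.Agent.H4.GrpdLib.comp (pairG f)
    (pullback.fst (Ro.ι ≫ pullback.snd f f) (Ro.ι ≫ pullback.fst f f) ≫ Ro.ι)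
    (pullback.snd (Ro.ι ≫ pullback.snd f f) (Ro.ι ≫ pullback.fst f f) ≫ Ro.ι)
    (by simp only [Category.assoc]; exact pullback.condition)

lemma compP_fst (Ro : (pullback f f).Opens) :
    compP f Ro ≫ pullback.fst f f =
      pullback.fst (Ro.ι ≫ pullback.snd f f) (Ro.ι ≫ pullback.fst f f) ≫ Ro.ι ≫
        pullback.fst f f := by
  unfold compP Groth.Agent.H4.GrpdLib.comp
  dsimp only [pairG]
  pair_simp

lemma compP_snd (Ro : (pullback f f).Opens) :
    compP f Ro ≫ pullback.snd f f =
      pullback.snd (Ro.ι ≫ pullback.snd f f) (Ro.ι ≫ pullback.fst f f) ≫ Ro.ι ≫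
        pullback.snd f f := by
  unfold compP Groth.Agent.H4.GrpdLib.comp
  dsimp only [pairG]
  pair_simp

section Open

variable (Ro : (pullback f f).Opens)
  (he : ∀ x : U, (pullback.lift (𝟙 U) (𝟙 U) rfl : U ⟶ pullback f f) x ∈ Ro)
  (hi : ∀ z : ↥(pullback f f), z ∈ Ro → swapP f z ∈ Ro)
  (hc : ∀ z : ↥(pullback (Ro.ι ≫ pullback.snd f f) (Ro.ι ≫ pullback.fst f f)), compP f Ro z ∈ Ro)

/-- the identity section -/
noncomputable def eO : U ⟶ Ro.toScheme :=
  IsOpenImmersion.lift Ro.ι (pullback.lift (𝟙 U) (𝟙 U) rfl) (by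
    rw [Scheme.Opens.range_ι]
    rintro _ ⟨x, rfl⟩
    exact he x)

lemma eO_ι : eO f Ro he ≫ Ro.ι = pullback.lift (𝟙 U) (𝟙 U) rfl :=
  IsOpenImmersion.lift_fac _ _ _

/-- the inverse -/
noncomputable def iO : Ro.toScheme ⟶ Ro.toScheme :=
  IsOpenImmersion.lift Ro.ι (Ro.ι ≫ swapP f) (by
    rw [Scheme.Opens.range_ι]
    rintro _ ⟨x, rfl⟩
    rw [Scheme.Hom.comp_apply]
    have hx : Ro.ι x ∈ Set.range Ro.ι := ⟨x, rfl⟩
    rw [Scheme.Opens.range_ι] at hx
    exact hi _ hx)

lemma iO_ι : iO f Ro hi ≫ Ro.ι = Ro.ι ≫ swapP f :=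
  IsOpenImmersion.lift_fac _ _ _

/-- the composition -/
noncomputable def cO :
    pullback (Ro.ι ≫ pullback.snd f f) (Ro.ι ≫ pullback.fst f f) ⟶ Ro.toScheme :=
  IsOpenImmersion.lift Ro.ι (compP f Ro) (by
    rw [Scheme.Opens.range_ι]
    rintro _ ⟨x, rfl⟩
    exact hc x)

lemma cO_ι : cO f Ro hc ≫ Ro.ι = compP f Ro :=
  IsOpenImmersion.lift_fac _ _ _

/-- the groupoid scheme of the open equivalence relation `Ro` -/
noncomputable def eqvG : Grpd.GroupoidScheme S :=
  Groth.Agent.H4.GrpdLib12.subGrpd (pairG f) Ro.ι (eO f Ro he) (eO_ι f Ro he)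
    (iO f Ro hi) (iO_ι f Ro hi) (cO f Ro hc) (cO_ι f Ro hc)

lemma eqvG_U : (eqvG f Ro he hi hc).U = U := rfl
lemma eqvG_R : (eqvG f Ro he hi hc).R = Ro.toScheme := rfl
lemma eqvG_pU : (eqvG f Ro he hi hc).pU = f := rfl
lemma eqvG_s : (eqvG f Ro he hi hc).s = Ro.ι ≫ pullback.snd f f := rfl
lemma eqvG_t : (eqvG f Ro he hi hc).t = Ro.ι ≫ pullback.fst f f := rfl

lemma eqvG_j : (eqvG f Ro he hi hc).j = Ro.ι := by
  apply pullback.hom_ext
  · exact pullback.lift_fst _ _ _
  · exact pullback.lift_snd _ _ _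

instance : Mono (eqvG f Ro he hi hc).j := by
  rw [eqvG_j]
  exact (inferInstance : Mono Ro.ι)

end Open

end Groth.Agent.H3.SGA1Quot
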