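import Mathlib
import Groth.Prelude.Def_Grpd
import Groth.Agent.Lib.Helper3.SGA1Quot.EqvGrpd

/-!
# The open equivalence relation `⋃_g Γ_g ⊆ T ×_W T` of a finite group acting on `T` étale over `W`
-/

set_option autoImplicit false

open CategoryTheory Limits AlgebraicGeometry

universe u

namespace Groth.Agent.H3.SGA1Quot

local macro "pb_simp" : tactic => `(tactic| simp only [Category.assoc, pullback.lift_fst,
  pullback.lift_snd, pullback.lift_fst_assoc, pullback.lift_snd_assoc, Category.comp_id,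
  Category.id_comp, pullback.map, pullback.diagonal])

section Act

variable {T W : Scheme.{u}} {G : Type u} [Group G] (f : T ⟶ W) (θ : G →* Aut T)
  (hθ : ∀ g : G, (θ g).hom ≫ f = f)

lemma θ_mul (g h : G) : (θ (g * h)).hom = (θ h).hom ≫ (θ g).hom := by
  rw [map_mul]; rfl

lemma θ_one : (θ 1).hom = 𝟙 T := by
  rw [map_one]; rfl

lemma θ_inv_comp (g : G) : (θ g).hom ≫ (θ g⁻¹).hom = 𝟙 T := by
  rw [← θ_mul, inv_mul_cancel, θ_one]

/-- the graph of `g` -/
noncomputable def gr (g : G) : T ⟶ pullback f f :=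
  pullback.lift (𝟙 T) (θ g).hom (by rw [Category.id_comp, hθ g])

@[reassoc]
lemma gr_fst (g : G) : gr f θ hθ g ≫ pullback.fst f f = 𝟙 T := pullback.lift_fst _ _ _

@[reassoc]
lemma gr_snd (g : G) : gr f θ hθ g ≫ pullback.snd f f = (θ g).hom := pullback.lift_snd _ _ _

lemma gr_eq (g : G) : gr f θ hθ g = pullback.diagonal f ≫
    pullback.map f f f f (𝟙 T) (θ g).hom (𝟙 W) (by rw [Category.comp_id, Category.id_comp])
      (by rw [Category.comp_id, hθ g]) := by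
  unfold gr
  apply pullback.hom_ext <;> pb_simp

instance isOpenImmersion_gr [IsOpenImmersion (pullback.diagonal f)] (g : G) :
    IsOpenImmersion (gr f θ hθ g) := by
  rw [gr_eq]
  infer_instance

instance isClosedImmersion_gr [IsSeparated f] (g : G) :
    IsClosedImmersion (gr f θ hθ g) := by
  rw [gr_eq]
  infer_instance

lemma eq_comp_gr {Z : Scheme.{u}} (ψ : Z ⟶ pullback f f) (g : G)
    (h : ψ ≫ pullback.snd f f = ψ ≫ pullback.fst f f ≫ (θ g).hom) :
    ψ = (ψ ≫ pullback.fst f f) ≫ gr f θ hθ g := by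
  apply pullback.hom_ext
  · rw [Category.assoc, gr_fst, Category.comp_id]
  · rw [Category.assoc, gr_snd, h, Category.assoc]

variable [IsOpenImmersion (pullback.diagonal f)]

/-- the union of the graphs -/
noncomputable def Rel : (pullback f f).Opens := ⨆ g : G, (gr f θ hθ g).opensRange

lemma mem_Rel_iff (z : ↥(pullback f f)) :
    z ∈ Rel f θ hθ ↔ ∃ g : G, z ∈ Set.range (gr f θ hθ g) := by
  unfold Rel
  rw [TopologicalSpace.Opens.mem_iSup]
  rfl

lemma gr_mem_Rel (g : G) (x : T) : gr f θ hθ g x ∈ Rel f θ hθ :=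
  (mem_Rel_iff f θ hθ _).2 ⟨g, x, rfl⟩

lemma mem_Rel_of_eq {Z : Scheme.{u}} (ψ : Z ⟶ pullback f f) (g : G)
    (h : ψ ≫ pullback.snd f f = ψ ≫ pullback.fst f f ≫ (θ g).hom) (z : Z) :
    ψ z ∈ Rel f θ hθ := by
  rw [eq_comp_gr f θ hθ ψ g h, Scheme.Hom.comp_apply]
  exact gr_mem_Rel f θ hθ g _

lemma exists_eq_of_mem_Rel {Z : Scheme.{u}} (φ : Z ⟶ pullback f f) (z : Z)
    (h : φ z ∈ Rel f θ hθ) : ∃ g : G,
      (Z.fromSpecResidueField z ≫ φ) ≫ pullback.snd f f =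
        (Z.fromSpecResidueField z ≫ φ) ≫ pullback.fst f f ≫ (θ g).hom := by
  obtain ⟨g, x, hx⟩ := (mem_Rel_iff f θ hθ _).1 h
  refine ⟨g, ?_⟩
  have hsub : Set.range (Z.fromSpecResidueField z ≫ φ) ⊆ Set.range (gr f θ hθ g) := by
    rintro _ ⟨s, rfl⟩
    rw [Scheme.Hom.comp_apply, Scheme.fromSpecResidueField_apply]
    exact ⟨x, hx⟩
  have hfac := IsOpenImmersion.lift_fac (gr f θ hθ g) (Z.fromSpecResidueField z ≫ φ) hsub
  rw [← hfac]
  simp only [Category.assoc, gr_fst_assoc, gr_snd]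

lemma he_Rel (x : T) : (pullback.lift (𝟙 T) (𝟙 T) rfl : T ⟶ pullback f f) x ∈ Rel f θ hθ := by
  have : (pullback.lift (𝟙 T) (𝟙 T) rfl : T ⟶ pullback f f) = gr f θ hθ 1 := by
    apply pullback.hom_ext
    · rw [gr_fst, pullback.lift_fst]
    · rw [gr_snd, pullback.lift_snd, θ_one]
  rw [this]
  exact gr_mem_Rel f θ hθ 1 x

lemma hi_Rel (z : ↥(pullback f f)) (hz : z ∈ Rel f θ hθ) : swapP f z ∈ Rel f θ hθ := by
  obtain ⟨g, x, rfl⟩ := (mem_Rel_iff f θ hθ _).1 hz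
  rw [← Scheme.Hom.comp_apply]
  refine mem_Rel_of_eq f θ hθ _ g⁻¹ ?_ x
  simp only [swapP, Category.assoc, pullback.lift_snd, pullback.lift_fst_assoc,
    gr_fst, gr_snd_assoc, θ_inv_comp]

lemma hc_Rel (z : ↥(pullback ((Rel f θ hθ).ι ≫ pullback.snd f f)
    ((Rel f θ hθ).ι ≫ pullback.fst f f))) : compP f (Rel f θ hθ) z ∈ Rel f θ hθ := by
  have hmem : ∀ r : ↥(Rel f θ hθ).toScheme, (Rel f θ hθ).ι r ∈ Rel f θ hθ := by
    intro r
    have hx : (Rel f θ hθ).ι r ∈ Set.range (Rel f θ hθ).ι := ⟨r, rfl⟩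
    rwa [Scheme.Opens.range_ι] at hx
  obtain ⟨g, hg⟩ := exists_eq_of_mem_Rel f θ hθ
    (pullback.fst ((Rel f θ hθ).ι ≫ pullback.snd f f) ((Rel f θ hθ).ι ≫ pullback.fst f f) ≫
      (Rel f θ hθ).ι) z (by rw [Scheme.Hom.comp_apply]; exact hmem _)
  obtain ⟨h, hh⟩ := exists_eq_of_mem_Rel f θ hθ
    (pullback.snd ((Rel f θ hθ).ι ≫ pullback.snd f f) ((Rel f θ hθ).ι ≫ pullback.fst f f) ≫
      (Rel f θ hθ).ι) z (by rw [Scheme.Hom.comp_apply]; exact hmem _)
  obtain ⟨s⟩ : Nonempty ↥(Spec ((pullback ((Rel f θ hθ).ι ≫ pullback.snd f f)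
    ((Rel f θ hθ).ι ≫ pullback.fst f f)).residueField z)) := inferInstance
  have hz : (pullback ((Rel f θ hθ).ι ≫ pullback.snd f f)
    ((Rel f θ hθ).ι ≫ pullback.fst f f)).fromSpecResidueField z s = z :=
    Scheme.fromSpecResidueField_apply _ _
  rw [← hz, ← Scheme.Hom.comp_apply]
  refine mem_Rel_of_eq f θ hθ _ (h * g) ?_ s
  have hcond := pullback.condition (f := (Rel f θ hθ).ι ≫ pullback.snd f f)
    (g := (Rel f θ hθ).ι ≫ pullback.fst f f)
  simp only [Category.assoc] at hg hh hcond ⊢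
  rw [compP_snd, reassoc_of% (compP_fst f (Rel f θ hθ)), hh, ← reassoc_of% hcond,
    reassoc_of% hg, θ_mul]

end Act

end Groth.Agent.H3.SGA1Quot
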