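import Mathlib

/-!
# A morphism dominated by finitely many universally closed pieces is universally closed
-/

set_option autoImplicit false

open CategoryTheory Limits AlgebraicGeometry

universe u

namespace Groth.Agent.H3.SGA1Quot

theorem universallyClosed_of_family {R T : Scheme.{u}} (h : R ⟶ T) {ι : Type*} [Finite ι]
    {Ti : ι → Scheme.{u}} (σ : ∀ i, Ti i ⟶ R) (hσ : ∀ r : R, ∃ i, r ∈ Set.range (σ i))
    (hc : ∀ i, UniversallyClosed (σ i ≫ h)) : UniversallyClosed h := by
  constructor
  intro X' Y' i₁ i₂ f' H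
  have hcl : ∀ i, IsClosedMap (pullback.fst i₁ (σ i) ≫ f') := fun i =>
    (hc i).universally_isClosedMap _ _ _ ((IsPullback.of_hasPullback i₁ (σ i)).paste_horiz H)
  intro C hC
  have key : f' '' C =
      ⋃ i, (pullback.fst i₁ (σ i) ≫ f') '' ((pullback.fst i₁ (σ i)) ⁻¹' C) := by
    ext y
    simp only [Set.mem_image, Set.mem_iUnion, Set.mem_preimage]
    constructor
    · rintro ⟨x, hx, rfl⟩
      obtain ⟨i, t, ht⟩ := hσ (i₁ x)
      obtain ⟨z, hz1, hz2⟩ := Scheme.Pullback.exists_preimage_pullback (f := i₁) (g := σ i) x t ht.symm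
      exact ⟨i, z, by rw [hz1]; exact hx, by rw [Scheme.Hom.comp_apply, hz1]⟩
    · rintro ⟨i, z, hz, rfl⟩
      exact ⟨_, hz, by rw [Scheme.Hom.comp_apply]⟩
  rw [key]
  exact isClosed_iUnion_of_finite fun i =>
    hcl i _ (hC.preimage (pullback.fst i₁ (σ i)).continuous)

/-- a morphism between affine schemes, locally of finite type, dominated by finitely many
universally closed pieces is finite -/
theorem isFinite_of_family {R T : Scheme.{u}} [IsAffine R] [IsAffine T] (h : R ⟶ T)
    [LocallyOfFiniteType h] {ι : Type*} [Finite ι]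
    {Ti : ι → Scheme.{u}} (σ : ∀ i, Ti i ⟶ R) (hσ : ∀ r : R, ∃ i, r ∈ Set.range (σ i))
    (hc : ∀ i, UniversallyClosed (σ i ≫ h)) : IsFinite h := by
  have h1 : UniversallyClosed h := universallyClosed_of_family h σ hσ hc
  rw [IsFinite.iff_isIntegralHom_and_locallyOfFiniteType,
    IsIntegralHom.iff_universallyClosed_and_isAffineHom]
  exact ⟨⟨h1, inferInstance⟩, inferInstance⟩

end Groth.Agent.H3.SGA1Quot
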