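import Mathlib
import Groth.Prelude.Def_Grpd
import Groth.Prelude.Def_SGA1
import Groth.Agent.Lib.Helper3.SGA1Quot.UC
import Groth.Agent.Lib.Helper3.SGA1Quot.ActRel
import Groth.Agent.Lib.Helper3.FpqcLocal2
import Groth.Agent.Lib.Helper3.FpqcCov.Basic
import Groth.Agent.H4.GQ15
import Groth.Agent.H4.QuotEx

/-!
# The quotient of an affine scheme étale over an affine base by a finite group is étale
-/

set_option autoImplicit false

open CategoryTheory Limits AlgebraicGeometry

universe u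

namespace Groth.Agent.H3.SGA1Quot

section Act

variable {T W : Scheme.{u}} {G : Type u} [Group G] (f : T ⟶ W) (θ : G →* Aut T)
  (hθ : ∀ g : G, (θ g).hom ≫ f = f) [Etale f]

lemma appTop_comp_apply {X Y Z : Scheme.{u}} (u : X ⟶ Y) (v : Y ⟶ Z) (a : Γ(Z, ⊤)) :
    u.appTop.hom (v.appTop.hom a) = (u ≫ v).appTop.hom a := by
  rw [Scheme.Hom.comp_appTop]; rfl

/-- target map of the relation -/
noncomputable abbrev tR : (Rel f θ hθ).toScheme ⟶ T := (Rel f θ hθ).ι ≫ pullback.fst f f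

/-- source map of the relation -/
noncomputable abbrev sR : (Rel f θ hθ).toScheme ⟶ T := (Rel f θ hθ).ι ≫ pullback.snd f f

/-- the groupoid scheme of the equivalence relation `⋃_g Γ_g` -/
noncomputable def actG : Grpd.GroupoidScheme W :=
  eqvG f (Rel f θ hθ) (he_Rel f θ hθ) (hi_Rel f θ hθ) (hc_Rel f θ hθ)

/-- the sections `T ⟶ Rel` -/
noncomputable def σ (g : G) : T ⟶ (Rel f θ hθ).toScheme :=
  IsOpenImmersion.lift (Rel f θ hθ).ι (gr f θ hθ g) (by
    rw [Scheme.Opens.range_ι]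
    rintro _ ⟨x, rfl⟩
    exact gr_mem_Rel f θ hθ g x)

@[reassoc]
lemma σ_ι (g : G) : σ f θ hθ g ≫ (Rel f θ hθ).ι = gr f θ hθ g :=
  IsOpenImmersion.lift_fac _ _ _

instance (g : G) : IsOpenImmersion (σ f θ hθ g) := by
  have : IsOpenImmersion (σ f θ hθ g ≫ (Rel f θ hθ).ι) := by
    rw [σ_ι]; infer_instance
  exact IsOpenImmersion.of_comp _ (Rel f θ hθ).ι

lemma σ_surj (r : ↥(Rel f θ hθ).toScheme) : ∃ g : G, r ∈ Set.range (σ f θ hθ g) := by
  have hr : (Rel f θ hθ).ι r ∈ Rel f θ hθ := by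
    have hx : (Rel f θ hθ).ι r ∈ Set.range (Rel f θ hθ).ι := ⟨r, rfl⟩
    rwa [Scheme.Opens.range_ι] at hx
  obtain ⟨g, x, hx⟩ := (mem_Rel_iff f θ hθ _).1 hr
  refine ⟨g, x, ?_⟩
  apply (Rel f θ hθ).ι.isOpenEmbedding.injective
  rw [← Scheme.Hom.comp_apply, σ_ι, hx]

lemma σ_t (g : G) : σ f θ hθ g ≫ tR f θ hθ = 𝟙 T := by
  rw [σ_ι_assoc, gr_fst]

lemma σ_s (g : G) : σ f θ hθ g ≫ sR f θ hθ = (θ g).hom := by
  rw [σ_ι_assoc, gr_snd]

instance : Etale (tR f θ hθ) := by
  unfold tR; infer_instance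

instance : Etale (sR f θ hθ) := by
  unfold sR; infer_instance

lemma eqLocus_eq :
    RingHom.eqLocus (sR f θ hθ).appTop.hom (tR f θ hθ).appTop.hom =
      Groth.Agent.H4.QuotEx.invΓ θ := by
  ext a
  change (sR f θ hθ).appTop.hom a = (tR f θ hθ).appTop.hom a ↔
    ∀ g : G, (θ g).hom.appTop.hom a = a
  constructor
  · intro h g
    have h1 := congrArg (σ f θ hθ g).appTop.hom h
    rw [appTop_comp_apply, appTop_comp_apply, σ_s, σ_t] at h1
    rw [h1]
    simp
  · intro h
    let 𝒰 : (Rel f θ hθ).toScheme.OpenCover :=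
      Scheme.Cover.mkOfCovers G (fun _ => T) (σ f θ hθ) (fun r => by
        obtain ⟨g, x, hx⟩ := σ_surj f θ hθ r
        exact ⟨g, x, hx⟩) (fun g => inferInstance)
    refine 𝒰.ext_elem _ _ (fun g => ?_)
    change (σ f θ hθ g).appTop.hom ((sR f θ hθ).appTop.hom a) =
      (σ f θ hθ g).appTop.hom ((tR f θ hθ).appTop.hom a)
    rw [appTop_comp_apply, appTop_comp_apply, σ_s, σ_t, h g]
    simp

lemma actG_t : (actG f θ hθ).t = tR f θ hθ := rfl
lemma actG_s : (actG f θ hθ).s = sR f θ hθ := rfl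

instance : Etale (actG f θ hθ).t := (inferInstance : Etale (tR f θ hθ))

instance : Etale (actG f θ hθ).s := (inferInstance : Etale (sR f θ hθ))

instance : Mono (actG f θ hθ).j := by
  unfold actG; infer_instance

lemma invariants_eq :
    (actG f θ hθ).invariants = Groth.Agent.H4.QuotEx.invΓ θ :=
  eqLocus_eq f θ hθ

variable [IsAffine T] [IsAffine W]

omit [IsAffine W] in
lemma isClosed_Rel [Finite G] : IsClosed ((Rel f θ hθ : (pullback f f).Opens) : Set ↥(pullback f f)) := by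
  have : ((Rel f θ hθ : (pullback f f).Opens) : Set ↥(pullback f f)) =
      ⋃ g : G, Set.range (gr f θ hθ g) := by
    ext z
    rw [Set.mem_iUnion]
    exact mem_Rel_iff f θ hθ z
  rw [this]
  exact isClosed_iUnion_of_finite fun g => (gr f θ hθ g).isClosedEmbedding.isClosed_range

instance isAffine_Rel [Finite G] : IsAffine (Rel f θ hθ).toScheme := by
  have : IsClosedImmersion (Rel f θ hθ).ι :=
    IsClosedImmersion.of_isPreimmersion _ (by
      rw [Scheme.Opens.range_ι]; exact isClosed_Rel f θ hθ)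
  exact isAffine_of_isAffineHom (Rel f θ hθ).ι

variable [Finite G]

instance : IsAffine (actG f θ hθ).U := (inferInstance : IsAffine T)
instance : IsAffine (actG f θ hθ).R := isAffine_Rel f θ hθ

instance : IsFinite (tR f θ hθ) :=
  isFinite_of_family (tR f θ hθ) (σ f θ hθ)
    (σ_surj f θ hθ) (fun g => by rw [σ_t]; infer_instance)

instance : IsFinite (sR f θ hθ) :=
  isFinite_of_family (sR f θ hθ) (σ f θ hθ)
    (σ_surj f θ hθ) (fun g => by rw [σ_s]; infer_instance)

instance : IsFinite (actG f θ hθ).t := (inferInstance : IsFinite (tR f θ hθ))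

instance : IsFinite (actG f θ hθ).s := (inferInstance : IsFinite (sR f θ hθ))

/-- the quotient map of the groupoid is étale -/
theorem etale_toQuot : Etale (actG f θ hθ).toQuot := by
  obtain ⟨⟨h1, h2, h3⟩, φ, hφ1, hφ2⟩ := Groth.Agent.H4.GQ14.main_S1877 (actG f θ hθ)
  have hsurj := Groth.Agent.H4.GQ15.surjective_toQuot (actG f θ hθ)
  have hcov : Groth.Agent.H3.FpqcCov.Cov (actG f θ hθ).toQuot := by
    refine Groth.Agent.H3.FpqcCov.cov_of_cond _ hsurj h2 (fun V hV => ?_)
    refine ⟨(actG f θ hθ).toQuot ⁻¹ᵁ V, ?_, ?_⟩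
    · exact QuasiCompact.isCompact_preimage (f := (actG f θ hθ).toQuot) _ V.isOpen hV.isCompact
    · exact Set.image_preimage_eq _ hsurj.surj
  have hfst : Etale (pullback.fst (actG f θ hθ).toQuot (actG f θ hθ).toQuot) := by
    have e : pullback.fst (actG f θ hθ).toQuot (actG f θ hθ).toQuot =
        φ.inv ≫ (actG f θ hθ).t := by
      rw [← hφ1, Iso.inv_hom_id_assoc]
    rw [e]
    infer_instance
  exact Groth.Agent.H3.FpqcCov.of_isPullback (P := @Etale)
    (IsPullback.of_hasPullback (actG f θ hθ).toQuot (actG f θ hθ).toQuot) hcov hfst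

end Act

/-- the affine quotient map is étale -/
theorem etale_paff {T W : Scheme.{u}} {G : Type u} [Group G] [Finite G] (f : T ⟶ W)
    (θ : G →* Aut T) (hθ : ∀ g : G, (θ g).hom ≫ f = f) [Etale f] [IsAffine T] [IsAffine W] :
    Etale (Groth.Agent.H4.QuotEx.paff θ) := by
  have key : ∀ S : Subring Γ(T, ⊤), S = (actG f θ hθ).invariants →
      Etale (T.toSpecΓ ≫ Spec.map (CommRingCat.ofHom S.subtype)) := by
    rintro _ rfl
    exact etale_toQuot f θ hθ
  exact key _ (invariants_eq f θ hθ).symm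

end Groth.Agent.H3.SGA1Quot
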