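import Mathlib
import Groth.Prelude.Def_SGA1
import Groth.Agent.Lib.Helper3.SGA1Quot.ActEt
import Groth.Agent.Lib.Helper3.SmSrc.FppfSm
import Groth.Agent.H4.QuotEx
import Groth.Agent.H4.QuotFin
import Groth.Agent.H4.QuotKit

/-!
# SGA 1 V: the quotient of an étale separated `Y`-scheme by a finite group of `Y`-automorphisms
is étale over `Y`
-/

set_option autoImplicit false

open CategoryTheory Limits AlgebraicGeometry

universe u

namespace Groth.Agent.H3.SGA1Quot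

open Groth.Agent.H4.QuotEx Groth.Agent.H4.QuotFin Groth.Agent.H4.QuotKit

/-- two quotients of the same action are isomorphic -/
theorem exists_iso_of_isQuot {X Y Y' : Scheme.{u}} {G : Type u} [Group G] [Finite G]
    {ρ : G →* Aut X} {p : X ⟶ Y} {p' : X ⟶ Y'} (hp : SGA1.IsQuot ρ p) (hp' : SGA1.IsQuot ρ p') :
    ∃ e : Y ≅ Y', p ≫ e.hom = p' := by
  have := epi_of_isQuot hp
  have := epi_of_isQuot hp'
  refine ⟨⟨qdesc hp p' hp'.inv, qdesc hp' p hp.inv, ?_, ?_⟩, p_qdesc hp p' hp'.inv⟩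
  · rw [← cancel_epi p, ← Category.assoc, p_qdesc, p_qdesc, Category.comp_id]
  · rw [← cancel_epi p', ← Category.assoc, p_qdesc, p_qdesc, Category.comp_id]

/-- affine case -/
theorem etale_of_isQuot_affine {T W T' : Scheme.{u}} {G : Type u} [Group G] [Finite G]
    (f : T ⟶ W) (θ : G →* Aut T) (hθ : ∀ g : G, (θ g).hom ≫ f = f) [Etale f] [IsAffine T]
    [IsAffine W] (p : T ⟶ T') (hp : SGA1.IsQuot θ p) : Etale p := by
  obtain ⟨e, he⟩ := exists_iso_of_isQuot (isQuot_paff θ) hp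
  have := etale_paff f θ hθ
  rw [← he]
  infer_instance

/-- general case: the quotient map is étale -/
theorem etale_of_isQuot {X X' Y : Scheme.{u}} {G : Type u} [Group G] [Finite G]
    (ρ : G →* Aut X) (f : X ⟶ Y) [Etale f] (hρ : ∀ g : G, (ρ g).hom ≫ f = f)
    (p : X ⟶ X') (hp : SGA1.IsQuot ρ p) (q : X' ⟶ Y) (hq : p ≫ q = f) : Etale p := by
  have := hp.affine
  let ι := {V : X'.Opens // IsAffineOpen V ∧ ∃ W : Y.Opens, IsAffineOpen W ∧ V ≤ q ⁻¹ᵁ W}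
  have hcov : (⨆ i : ι, i.1) = ⊤ := by
    rw [eq_top_iff]
    intro x' _
    obtain ⟨W, hW, hxW, -⟩ := exists_isAffineOpen_mem_and_subset (x := q x') (U := ⊤) trivial
    obtain ⟨V, hV, hxV, hVW⟩ :=
      exists_isAffineOpen_mem_and_subset (x := x') (U := q ⁻¹ᵁ W) hxW
    rw [TopologicalSpace.Opens.mem_iSup]
    exact ⟨⟨V, hV, W, hW, hVW⟩, hxV⟩
  refine IsZariskiLocalAtTarget.of_iSup_eq_top (P := @Etale) (fun i : ι => i.1) hcov ?_
  rintro ⟨V, hV, W, hW, hVW⟩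
  have : IsAffine (p ⁻¹ᵁ V).toScheme := hV.preimage p
  have : IsAffine W.toScheme := hW
  have hst : ∀ g : G, p ⁻¹ᵁ V ≤ (ρ g).hom ⁻¹ᵁ (p ⁻¹ᵁ V) :=
    fun g => SGA1.preimage_le_of_inv ρ p hp.inv g V
  have hquot : SGA1.IsQuot (resAct ρ (p ⁻¹ᵁ V) hst) (p ∣_ V) :=
    main_S13606 ρ p hp V (resAct ρ (p ⁻¹ᵁ V) hst) (resAct_ι ρ (p ⁻¹ᵁ V) hst)
  have hsub : Set.range ((p ⁻¹ᵁ V).ι ≫ f) ⊆ Set.range W.ι := by
    rintro _ ⟨t, rfl⟩
    rw [Scheme.Opens.range_ι, ← hq, Scheme.Hom.comp_apply, Scheme.Hom.comp_apply]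
    have ht : (p ⁻¹ᵁ V).ι t ∈ p ⁻¹ᵁ V := ι_mem _ t
    exact hVW ht
  have hfac := IsOpenImmersion.lift_fac W.ι ((p ⁻¹ᵁ V).ι ≫ f) hsub
  have : Etale (IsOpenImmersion.lift W.ι ((p ⁻¹ᵁ V).ι ≫ f) hsub) := by
    refine MorphismProperty.of_postcomp (W := @Etale) (W' := @Etale) _ W.ι inferInstance ?_
    rw [hfac]
    infer_instance
  refine etale_of_isQuot_affine (IsOpenImmersion.lift W.ι ((p ⁻¹ᵁ V).ι ≫ f) hsub)
    (resAct ρ (p ⁻¹ᵁ V) hst) (fun g => ?_) (p ∣_ V) hquot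
  rw [← cancel_mono W.ι, Category.assoc, hfac, ← Category.assoc, resAct_ι, Category.assoc, hρ g]

/-- **SGA 1 V**: both `p : X ⟶ X/G` and `X/G ⟶ Y` are étale; `X/G ⟶ Y` is finite if `X ⟶ Y` is -/
theorem main_S2911 {X X' Y : Scheme.{u}} {G : Type u} [Group G] [Finite G]
    (ρ : G →* Aut X) (f : X ⟶ Y) [Etale f] (hρ : ∀ g : G, (ρ g).hom ≫ f = f)
    (p : X ⟶ X') (hp : SGA1.IsQuot ρ p) (q : X' ⟶ Y) (hq : p ≫ q = f) :
    Etale p ∧ Etale q ∧ (IsFinite f → IsFinite q) := by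
  have hpe : Etale p := etale_of_isQuot ρ f hρ p hp q hq
  have hps : Function.Surjective p := Groth.Agent.H2.Quot.surjective hp
  have hqe : Etale q := by
    refine Groth.Agent.H3.FppfSm.etale_of_family (fun _ : Unit => X) (fun _ => p) q
      (fun y => ⟨(), hps y⟩) (fun _ => ?_)
    rw [hq]
    infer_instance
  refine ⟨hpe, hqe, fun hfin => ?_⟩
  have : Surjective p := ⟨hps⟩
  have : UniversallyClosed (p ≫ q) := by rw [hq]; infer_instance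
  have huc : UniversallyClosed q := UniversallyClosed.of_comp_surjective p q
  have haff : IsAffineHom q := by
    constructor
    intro W hW
    have hst : ∀ g : G, p ⁻¹ᵁ (q ⁻¹ᵁ W) ≤ (ρ g).hom ⁻¹ᵁ (p ⁻¹ᵁ (q ⁻¹ᵁ W)) :=
      fun g => SGA1.preimage_le_of_inv ρ p hp.inv g _
    have hquot : SGA1.IsQuot (resAct ρ (p ⁻¹ᵁ (q ⁻¹ᵁ W)) hst) (p ∣_ (q ⁻¹ᵁ W)) :=
      main_S13606 ρ p hp _ (resAct ρ _ hst) (resAct_ι ρ _ hst)
    have e : p ⁻¹ᵁ (q ⁻¹ᵁ W) = f ⁻¹ᵁ W := by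
      rw [← Scheme.Hom.comp_preimage, hq]
    have : IsAffine (p ⁻¹ᵁ (q ⁻¹ᵁ W)).toScheme := by
      rw [e]
      exact hW.preimage f
    exact isAffine_of_isQuot _ _ hquot
  rw [IsFinite.iff_isIntegralHom_and_locallyOfFiniteType,
    IsIntegralHom.iff_universallyClosed_and_isAffineHom]
  exact ⟨⟨huc, haff⟩, inferInstance⟩

end Groth.Agent.H3.SGA1Quot
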